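import Groth.Agent.InjHullLib.Basic
import Mathlib

/-!
# Essential extensions and hulls under localisation
-/

set_option autoImplicit false

namespace Groth.Agent.InjHullLib

open InjHull

universe u

variable {R : Type u} [CommRing R] [IsNoetherianRing R] (S : Submonoid R)

theorem localized_inf_ne_bot {M : Type u} [AddCommGroup M] [Module R M] (N : Submodule R M)
    (hN : ∀ N' : Submodule R M, N' ≠ ⊥ → N' ⊓ N ≠ ⊥) (L : Submodule (Localization S) (LocalizedModule S M))
    (hL : L ≠ ⊥) : L ⊓ Submodule.localized S N ≠ ⊥ := by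
  obtain ⟨z, hzL, hz⟩ := (Submodule.ne_bot_iff _).1 hL
  induction z using LocalizedModule.induction_on with
  | h x s =>
    have hx : (LocalizedModule.mk x 1 : LocalizedModule S M) ∈ L := by
      have h1 := L.smul_mem (algebraMap R (Localization S) (s : R)) hzL
      rw [algebraMap_smul, LocalizedModule.smul'_mk] at h1
      exact (LocalizedModule.mk_cancel s x) ▸ h1
    have hx0 : ∀ t : S, (t : R) • x ≠ 0 := fun t ht => hz (by
      rw [← LocalizedModule.zero_mk 1, LocalizedModule.mk_eq]
      exact ⟨t, by simp [Submonoid.smul_def, ht]⟩)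
    obtain ⟨A, ⟨t, rfl⟩, hmax⟩ := set_has_maximal_iff_noetherian.2
      (inferInstance : IsNoetherian R R) (Set.range fun t : S => LinearMap.ker (LinearMap.toSpanSingleton R M ((t : R) • x)))
      (Set.range_nonempty _)
    have hstab : ∀ (v : S) (r : R), r • ((v : R) • (t : R) • x) = 0 → r • (t : R) • x = 0 := fun v r hr => by
      have hle : LinearMap.ker (LinearMap.toSpanSingleton R M ((t : R) • x)) ≤
          LinearMap.ker (LinearMap.toSpanSingleton R M (((v * t : S) : R) • x)) := fun a ha => by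
        rw [LinearMap.mem_ker, LinearMap.toSpanSingleton_apply] at ha ⊢
        rw [Submonoid.coe_mul, mul_smul, smul_comm a, ha, smul_zero]
      have heq := eq_of_le_of_not_lt hle (hmax _ ⟨v * t, rfl⟩)
      have : r ∈ LinearMap.ker (LinearMap.toSpanSingleton R M (((v * t : S) : R) • x)) := by
        rw [LinearMap.mem_ker, LinearMap.toSpanSingleton_apply, Submonoid.coe_mul, mul_smul]
        exact hr
      rwa [← heq, LinearMap.mem_ker, LinearMap.toSpanSingleton_apply] at this
    let I : Ideal R := N.comap (LinearMap.toSpanSingleton R M ((t : R) • x))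
    by_contra hbot
    have hI : ∀ r ∈ I, ∃ v : S, (v : R) • r • (t : R) • x = 0 := fun r hr => by
      have hmem : (LocalizedModule.mk (r • (t : R) • x) 1 : LocalizedModule S M) ∈ L ⊓ Submodule.localized S N := by
        refine ⟨?_, ?_⟩
        · rw [← LocalizedModule.smul'_mk, ← LocalizedModule.smul'_mk, ← algebraMap_smul (Localization S) r,
            ← algebraMap_smul (Localization S) (t : R) (LocalizedModule.mk x 1 : LocalizedModule S M)]
          exact L.smul_mem _ (L.smul_mem _ hx)
        · exact (Submodule.mem_localized' (Localization S) S _ _ _).2 ⟨_, hr, 1, IsLocalizedModule.mk'_one S _ _⟩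
      rw [hbot, Submodule.mem_bot, ← LocalizedModule.zero_mk 1, LocalizedModule.mk_eq] at hmem
      obtain ⟨v, hv⟩ := hmem
      exact ⟨v, by simpa [Submonoid.smul_def] using hv⟩
    obtain ⟨G, hG⟩ := IsNoetherian.noetherian I
    choose! v hv using fun r (hr : r ∈ G) => hI r (hG ▸ Submodule.subset_span hr)
    classical
    let w : S := ∏ r ∈ G, v r
    have hw : ∀ r ∈ I, (w : R) • r • (t : R) • x = 0 := fun r hr => by
      rw [← hG] at hr
      induction hr using Submodule.span_induction with
      | mem r hrG =>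
        obtain ⟨c, hc⟩ : v r ∣ w := Finset.dvd_prod_of_mem _ hrG
        rw [hc, Submonoid.coe_mul, mul_comm, mul_smul, hv r hrG, smul_zero]
      | zero => simp
      | add a b _ _ ha hb => rw [add_smul, smul_add, ha, hb, add_zero]
      | smul c a _ ha => rw [smul_eq_mul, mul_smul, smul_comm (w : R) c, ha, smul_zero]
    have hy : (w : R) • (t : R) • x ≠ 0 := by
      rw [← mul_smul, ← Submonoid.coe_mul]; exact hx0 (w * t)
    obtain ⟨z, ⟨hz1, hz2⟩, hz0⟩ := (Submodule.ne_bot_iff _).1 (hN (R ∙ ((w : R) • (t : R) • x))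
      (fun h0 => hy (Submodule.span_singleton_eq_bot.1 h0)))
    obtain ⟨r, rfl⟩ := Submodule.mem_span_singleton.1 hz1
    have hrI : r * (w : R) ∈ I := by
      show (r * (w : R)) • ((t : R) • x) ∈ N
      rw [mul_smul]; exact hz2
    have h2 := hw _ hrI
    rw [mul_smul, smul_comm (w : R) r] at h2
    have h3 : r • (t : R) • x = 0 := hstab (w * w) r (by rw [Submonoid.coe_mul, mul_smul]; exact h2)
    exact hz0 (by rw [smul_comm, h3, smul_zero])

theorem isInjectiveHull_localized {M E : Type u} [AddCommGroup M] [Module R M] [AddCommGroup E] [Module R E]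
    {f : M →ₗ[R] E} (hf : IsInjectiveHull f) : IsInjectiveHull (LocalizedModule.map S f) := by
  haveI : Small.{u} R := small_self R
  refine ⟨⟨LocalizedModule.map_injective S f hf.injective, fun L hL => ?_⟩, ?_⟩
  · have h := localized_inf_ne_bot S (LinearMap.range f) hf.essential L hL
    obtain ⟨z, ⟨hzL, hz⟩, hz0⟩ := (Submodule.ne_bot_iff _).1 h
    refine (Submodule.ne_bot_iff _).2 ⟨z, ⟨hzL, ?_⟩, hz0⟩
    obtain ⟨_, ⟨m, rfl⟩, s, rfl⟩ := (Submodule.mem_localized' (Localization S) S _ _ _).1 hz
    exact ⟨LocalizedModule.mk m s, (LocalizedModule.map_mk S f m s).trans (IsLocalizedModule.mk_eq_mk' _ _)⟩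
  · haveI := hf.isInjective
    exact Module.injective_of_isLocalizedModule S (LocalizedModule.mkLinearMap S E)

/-- In a hull of `R/p` an element of `S` outside `p` acts bijectively, one inside nilpotently. -/
theorem bijective_smul_of_notMem {p : Ideal R} [p.IsPrime] {E : Type u} [AddCommGroup E] [Module R E]
    {f : (R ⧸ p) →ₗ[R] E} (hf : IsInjectiveHull f) {s : R} (hs : s ∉ p) :
    Function.Bijective (fun x : E => s • x) := by
  have hinj : Function.Injective (LinearMap.lsmul R E s) := by
    refine injective_of_comp_injective hf.toIsEssentialInj _ fun a b hab => ?_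
    obtain ⟨a, rfl⟩ := Ideal.Quotient.mk_surjective a
    obtain ⟨b, rfl⟩ := Ideal.Quotient.mk_surjective b
    simp only [LinearMap.comp_apply, LinearMap.lsmul_apply, ← map_smul] at hab
    have h2 : Ideal.Quotient.mk p (s * (a - b)) = 0 := by
      rw [mul_sub, map_sub, sub_eq_zero]
      exact hf.injective hab
    exact Ideal.Quotient.eq.2 ((‹p.IsPrime›.mem_or_mem (Ideal.Quotient.eq_zero_iff_mem.1 h2)).resolve_left hs)
  refine ⟨hinj, ?_⟩
  obtain ⟨Q, hQ⟩ := exists_isCompl_range hf.isInjective _ hinj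
  have hE := isIndecomposable_hull_quotient_prime p hf.toIsEssentialInj
  rcases hE.2 _ _ hQ with h | h
  · haveI := hE.1
    obtain ⟨x, hx⟩ := exists_ne (0 : E)
    have : (LinearMap.lsmul R E s) x = 0 := by
      have hm : (LinearMap.lsmul R E s) x ∈ LinearMap.range (LinearMap.lsmul R E s) := ⟨x, rfl⟩
      rwa [h, Submodule.mem_bot] at hm
    exact absurd (hinj (this.trans (map_zero _).symm)) hx
  · rw [h] at hQ
    exact LinearMap.range_eq_top.1 (eq_top_of_isCompl_bot hQ)

theorem exists_pow_smul_eq_zero_of_mem {p : Ideal R} [p.IsPrime] {E : Type u} [AddCommGroup E] [Module R E]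
    {f : (R ⧸ p) →ₗ[R] E} (hf : IsInjectiveHull f)
    (hT : ∀ J : Ideal R, Module.Injective R ↥(⨆ n : ℕ, Submodule.torsionBySet R E ((J ^ n : Ideal R) : Set R)))
    {s : R} (hs : s ∈ p) (x : E) : ∃ n : ℕ, s ^ n • x = 0 := by
  obtain ⟨T, hTdef⟩ : ∃ T : Submodule R E,
      T = ⨆ n : ℕ, Submodule.torsionBySet R E (((Ideal.span {s}) ^ n : Ideal R) : Set R) := ⟨_, rfl⟩
  have hTinj : Module.Injective R T := hTdef ▸ hT (Ideal.span {s})
  obtain ⟨Q, hQ⟩ := exists_isCompl_range hTinj T.subtype Subtype.val_injective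
  rw [Submodule.range_subtype] at hQ
  have hE := isIndecomposable_hull_quotient_prime p hf.toIsEssentialInj
  have hmem1 : f (Ideal.Quotient.mk p 1) ∈ T := by
    rw [hTdef]
    refine Submodule.mem_iSup_of_mem 1 ((Submodule.mem_torsionBySet_iff _ _).2 fun a => ?_)
    obtain ⟨a, ha⟩ := a
    rw [pow_one, SetLike.mem_coe, Ideal.mem_span_singleton'] at ha
    obtain ⟨c, rfl⟩ := ha
    show (c * s) • f (Ideal.Quotient.mk p 1) = 0
    rw [← map_smul, show (c * s) • Ideal.Quotient.mk p (1 : R) = Ideal.Quotient.mk p ((c * s) * 1) from rfl,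
      Ideal.Quotient.eq_zero_iff_mem.2 (p.mul_mem_right _ (p.mul_mem_left c hs)), map_zero]
  have hTtop : T = ⊤ := by
    rcases hE.2 _ _ hQ with h | h
    · rw [h, Submodule.mem_bot] at hmem1
      exact absurd ((Ideal.Quotient.eq_zero_iff_mem).1 (hf.injective (hmem1.trans (map_zero f).symm)))
        (fun h1 => ‹p.IsPrime›.ne_top ((Ideal.eq_top_iff_one _).2 h1))
    · rw [h] at hQ; exact eq_top_of_isCompl_bot hQ
  have hx : x ∈ T := hTtop ▸ Submodule.mem_top
  rw [hTdef, Submodule.mem_iSup_of_directed _ (Monotone.directed_le fun a b h =>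
    Submodule.torsionBySet_le_torsionBySet_of_subset (Ideal.pow_le_pow_right h))] at hx
  obtain ⟨n, hn⟩ := hx
  exact ⟨n, (Submodule.mem_torsionBySet_iff _ _).1 hn ⟨s ^ n, Ideal.pow_mem_pow (Ideal.mem_span_singleton_self s) n⟩⟩

end Groth.Agent.InjHullLib
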