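import Groth.Agent.Matlis6.HullExistence
import Mathlib.Algebra.DirectSum.Module
import Mathlib.Algebra.Module.Torsion.Basic
import Mathlib.LinearAlgebra.Isomorphisms
import Mathlib.RingTheory.Filtration
import Mathlib.RingTheory.Noetherian.Basic

/-!
# Injective modules and injective hulls: generalities
-/

namespace Groth.Agent.InjHullLib

open InjHull DirectSum

universe u v

variable {R : Type u} [CommRing R]

/-- Factor a linear map through a surjection with smaller kernel. -/
theorem exists_factor {M N P : Type*} [AddCommGroup M] [Module R M] [AddCommGroup N] [Module R N]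
    [AddCommGroup P] [Module R P] (q : M →ₗ[R] N) (hq : Function.Surjective q) (g : M →ₗ[R] P)
    (h : LinearMap.ker q ≤ LinearMap.ker g) : ∃ g' : N →ₗ[R] P, g' ∘ₗ q = g := by
  refine ⟨Submodule.liftQ _ g h ∘ₗ (q.quotKerEquivOfSurjective hq).symm.toLinearMap,
    LinearMap.ext fun x => ?_⟩
  have : q.quotKerEquivOfSurjective hq (Submodule.Quotient.mk x) = q x := rfl
  show Submodule.liftQ _ g h ((q.quotKerEquivOfSurjective hq).symm (q x)) = g x
  rw [← this, LinearEquiv.symm_apply_apply, Submodule.liftQ_apply]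

theorem essential_iff {M E : Type v} [AddCommGroup M] [Module R M] [AddCommGroup E] [Module R E]
    (f : M →ₗ[R] E) : IsEssentialInj f ↔ Function.Injective f ∧
      ∀ x : E, x ≠ 0 → ∃ r : R, r • x ∈ LinearMap.range f ∧ r • x ≠ 0 := by
  refine ⟨fun h => ⟨h.injective, fun x hx => ?_⟩, fun h => ⟨h.1, fun N hN => ?_⟩⟩
  · obtain ⟨z, ⟨hz1, hz2⟩, hz0⟩ := (Submodule.ne_bot_iff _).1 (h.essential (R ∙ x)
      (fun h0 => hx (Submodule.span_singleton_eq_bot.1 h0)))
    obtain ⟨r, rfl⟩ := Submodule.mem_span_singleton.1 hz1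
    exact ⟨r, hz2, hz0⟩
  · obtain ⟨x, hxN, hx⟩ := (Submodule.ne_bot_iff _).1 hN
    obtain ⟨r, hr, hr0⟩ := h.2 x hx
    exact (Submodule.ne_bot_iff _).2 ⟨r • x, ⟨N.smul_mem r hxN, hr⟩, hr0⟩

theorem injective_of_comp_injective {M E I : Type v} [AddCommGroup M] [Module R M] [AddCommGroup E]
    [Module R E] [AddCommGroup I] [Module R I] {f : M →ₗ[R] E} (hf : IsEssentialInj f)
    (h : E →ₗ[R] I) (hh : Function.Injective (h ∘ₗ f)) : Function.Injective h := by
  rw [injective_iff_map_eq_zero]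
  intro x hx
  by_contra hx0
  obtain ⟨r, ⟨m, hm⟩, hr0⟩ := ((essential_iff f).1 hf).2 x hx0
  refine hr0 ?_
  rw [← hm]
  have : (h ∘ₗ f) m = 0 := by simp [hm, hx]
  rw [(injective_iff_map_eq_zero _).1 hh m this, map_zero]

/-- A retract of an injective module is injective. -/
theorem injective_of_retract {M N : Type u} [AddCommGroup M] [Module R M] [AddCommGroup N]
    [Module R N] (i : N →ₗ[R] M) (p : M →ₗ[R] N) (h : ∀ x, p (i x) = x)
    (hM : Module.Injective R M) : Module.Injective R N := by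
  constructor
  intro X Y _ _ _ _ f hf g
  obtain ⟨k, hk⟩ := hM.out f hf (i ∘ₗ g)
  exact ⟨p ∘ₗ k, fun x => by simp [hk, h]⟩

theorem injective_of_equiv {M N : Type u} [AddCommGroup M] [Module R M] [AddCommGroup N]
    [Module R N] (e : M ≃ₗ[R] N) (hM : Module.Injective R M) : Module.Injective R N :=
  injective_of_retract e.symm.toLinearMap e.toLinearMap (fun x => by simp) hM

/-- An injective module is a direct summand wherever it embeds. -/
theorem exists_isCompl_range {E I : Type u} [AddCommGroup E] [Module R E] [AddCommGroup I]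
    [Module R I] (hE : Module.Injective R E) (i : E →ₗ[R] I) (hi : Function.Injective i) :
    ∃ Q : Submodule R I, IsCompl (LinearMap.range i) Q := by
  obtain ⟨p, hp⟩ := hE.out i hi LinearMap.id
  simp only [LinearMap.id_apply] at hp
  refine ⟨LinearMap.ker p, ?_, ?_⟩
  · rw [Submodule.disjoint_def]
    rintro _ ⟨x, rfl⟩ hx
    rw [show x = 0 by rw [← hp x]; exact hx, map_zero]
  · rw [codisjoint_iff, eq_top_iff]
    intro x _
    exact Submodule.mem_sup.2 ⟨i (p x), ⟨_, rfl⟩, x - i (p x), by simp [hp], by abel⟩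

/-- A complemented submodule of an injective module is injective. -/
theorem injective_of_isCompl {I : Type u} [AddCommGroup I] [Module R I] (hI : Module.Injective R I)
    {P Q : Submodule R I} (h : IsCompl P Q) : Module.Injective R P :=
  injective_of_retract P.subtype (Submodule.projectionOnto P Q h)
    (fun x => Submodule.projectionOnto_apply_left h x) hI

/-- In an indecomposable injective module any two nonzero submodules meet. -/
theorem inf_ne_bot_of_indecomposable {E : Type u} [AddCommGroup E] [Module R E]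
    (hE : IsIndecomposable R E) (hinj : Module.Injective R E) (N N' : Submodule R E)
    (hN : N ≠ ⊥) (hN' : N' ≠ ⊥) : N ⊓ N' ≠ ⊥ := by
  obtain ⟨H, _, _, f, hf⟩ := Groth.Agent.Matlis6.exists_isInjectiveHull R N
  obtain ⟨α, hα⟩ := hinj.out f hf.injective N.subtype
  have hαinj : Function.Injective α := injective_of_comp_injective hf.toIsEssentialInj α (by
    intro a b hab
    simpa [hα] using hab)
  obtain ⟨Q, hQ⟩ := exists_isCompl_range hf.isInjective α hαinj
  rcases hE.2 _ _ hQ with h | h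
  · exfalso
    refine hN (le_bot_iff.1 (le_trans ?_ h.le))
    intro x hx
    exact ⟨f ⟨x, hx⟩, hα _⟩
  · rw [h] at hQ
    have hsurj : LinearMap.range α = ⊤ := eq_top_of_isCompl_bot hQ
    obtain ⟨x, hx, hx0⟩ := (Submodule.ne_bot_iff _).1 hN'
    obtain ⟨y, rfl⟩ := LinearMap.range_eq_top.1 hsurj x
    have hy0 : y ≠ 0 := fun h => hx0 (by rw [h, map_zero])
    obtain ⟨r, ⟨n, hn⟩, hr0⟩ := ((essential_iff f).1 hf.toIsEssentialInj).2 y hy0
    refine (Submodule.ne_bot_iff _).2 ⟨r • α y, ⟨?_, N'.smul_mem r hx⟩, ?_⟩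
    · rw [← map_smul, ← hn, hα]; exact n.2
    · rw [← map_smul]
      exact fun h => hr0 (hαinj (by rw [h, map_zero]))

/-- A hull of `R / p` is indecomposable. -/
theorem isIndecomposable_hull_quotient_prime (p : Ideal R) [p.IsPrime] {E : Type u} [AddCommGroup E]
    [Module R E] {f : (R ⧸ p) →ₗ[R] E} (hf : IsEssentialInj f) : IsIndecomposable R E := by
  have : Nontrivial (R ⧸ p) := Ideal.Quotient.nontrivial_iff.2 (Ideal.IsPrime.ne_top ‹_›)
  have hne : f 1 ≠ 0 := fun h => one_ne_zero (hf.injective (h.trans (map_zero f).symm))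
  refine ⟨⟨⟨f 1, 0, hne⟩⟩, fun N N' h => ?_⟩
  by_contra hc
  push Not at hc
  obtain ⟨x, ⟨hxN, a, ha⟩, hx0⟩ := (Submodule.ne_bot_iff _).1 (hf.essential N hc.1)
  obtain ⟨y, ⟨hyN, b, hb⟩, hy0⟩ := (Submodule.ne_bot_iff _).1 (hf.essential N' hc.2)
  subst ha hb
  obtain ⟨a, rfl⟩ := Ideal.Quotient.mk_surjective a
  obtain ⟨b, rfl⟩ := Ideal.Quotient.mk_surjective b
  have hab : f (Ideal.Quotient.mk p (a * b)) = 0 := by
    refine Submodule.disjoint_def.1 h.disjoint _ ?_ ?_
    · rw [mul_comm, show Ideal.Quotient.mk p (b * a) = b • Ideal.Quotient.mk p a from rfl, map_smul]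
      exact N.smul_mem b hxN
    · rw [show Ideal.Quotient.mk p (a * b) = a • Ideal.Quotient.mk p b from rfl, map_smul]
      exact N'.smul_mem a hyN
  have := hf.injective (hab.trans (map_zero f).symm)
  rcases Ideal.IsPrime.mem_or_mem ‹_› (Ideal.Quotient.eq_zero_iff_mem.1 this) with h1 | h1
  · exact hx0 (by rw [Ideal.Quotient.eq_zero_iff_mem.2 h1, map_zero])
  · exact hy0 (by rw [Ideal.Quotient.eq_zero_iff_mem.2 h1, map_zero])

/-- Bass–Papp: direct sums of injective modules over a Noetherian ring are injective. -/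
theorem injective_directSum [IsNoetherianRing R] {ι : Type u} (E : ι → Type u)
    [∀ i, AddCommGroup (E i)] [∀ i, Module R (E i)] (hE : ∀ i, Module.Injective R (E i)) :
    Module.Injective R (DirectSum ι E) := by
  classical
  refine Module.Baer.injective fun 𝔞 g => ?_
  obtain ⟨G, hG⟩ := IsNoetherian.noetherian 𝔞
  have hmem : ∀ a ∈ G, a ∈ 𝔞 := fun a ha => hG ▸ Submodule.subset_span ha
  let s : Finset ι := G.attach.biUnion fun a => (g ⟨a.1, hmem a.1 a.2⟩).support
  choose h hh using fun i => Module.Baer.of_injective (hE i) 𝔞 (DirectSum.component R ι E i ∘ₗ g)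
  let x : DirectSum ι E := ∑ i ∈ s, DirectSum.lof R ι E i (h i 1)
  refine ⟨LinearMap.toSpanSingleton R _ x, fun a ha => ?_⟩
  rw [LinearMap.toSpanSingleton_apply]
  refine DirectSum.ext_component R fun i => ?_
  have hgi : DirectSum.component R ι E i (g ⟨a, ha⟩) = a • h i 1 := by
    have := hh i a ha
    simp only [LinearMap.coe_comp, Function.comp_apply] at this
    rw [← this, ← map_smul, smul_eq_mul, mul_one]
  rw [map_smul, hgi]
  by_cases hi : i ∈ s
  · congr 1
    simp only [x, map_sum]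
    rw [Finset.sum_eq_single_of_mem i hi fun j _ hj => ?_]
    · rw [DirectSum.component.lof_self]
    · rw [DirectSum.component.of, dif_neg hj]
  · have hz : DirectSum.component R ι E i x = 0 := by
      simp only [x, map_sum]
      refine Finset.sum_eq_zero fun j hj => ?_
      rw [DirectSum.component.of, dif_neg]
      rintro rfl
      exact hi hj
    rw [hz, smul_zero, ← hgi]
    have hker : 𝔞 ≤ (LinearMap.ker (DirectSum.component R ι E i ∘ₗ g)).map 𝔞.subtype := by
      refine hG.ge.trans (Submodule.span_le.2 ?_)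
      intro b hb
      refine ⟨⟨b, hG ▸ Submodule.subset_span hb⟩, ?_, rfl⟩
      rw [SetLike.mem_coe, LinearMap.mem_ker]
      have : i ∉ (g ⟨b, hmem b hb⟩).support := fun hmem' =>
        hi (Finset.mem_biUnion.2 ⟨⟨b, hb⟩, Finset.mem_attach _ _, hmem'⟩)
      exact DFinsupp.notMem_support_iff.1 this
    obtain ⟨b, hb, hba⟩ := hker ha
    rw [show (⟨a, ha⟩ : 𝔞) = b from Subtype.ext hba.symm]
    exact hb.symm

/-- Artin–Rees: a map from an ideal to a power torsion module vanishes on a small intersection. -/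
theorem exists_pow_inf_le_ker [IsNoetherianRing R] (J 𝔞 : Ideal R) {H : Type v} [AddCommGroup H]
    [Module R H] (hH : ∀ x : H, ∃ n : ℕ, ∀ a ∈ J ^ n, a • x = 0) (g : 𝔞 →ₗ[R] H) :
    ∃ k : ℕ, ∀ a : 𝔞, (a : R) ∈ J ^ k → g a = 0 := by
  classical
  obtain ⟨G, hG⟩ := (IsNoetherian.noetherian (⊤ : Submodule R 𝔞))
  choose n hn using fun a : 𝔞 => hH (g a)
  let N := G.sup n
  have hN : ∀ a : 𝔞, ∀ r ∈ J ^ N, r • g a = 0 := by
    intro a r hr
    have ha : a ∈ Submodule.span R (G : Set 𝔞) := hG ▸ trivial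
    induction ha using Submodule.span_induction with
    | mem b hb => exact hn b r (Ideal.pow_le_pow_right (Finset.le_sup hb) hr)
    | zero => simp
    | add b c _ _ hb hc => rw [map_add, smul_add, hb, hc, add_zero]
    | smul t b _ hb => rw [map_smul, smul_comm, hb, smul_zero]
  obtain ⟨c, hc⟩ := Ideal.exists_pow_inf_eq_pow_smul J (N := 𝔞)
  refine ⟨N + c, fun a ha => ?_⟩
  have h1 : (a : R) ∈ J ^ N • 𝔞 := by
    have : (a : R) ∈ J ^ (N + c) • (⊤ : Submodule R R) ⊓ 𝔞 :=
      ⟨by rw [smul_eq_mul, Ideal.mul_top]; exact ha, a.2⟩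
    rw [hc (N + c) (Nat.le_add_left c N), Nat.add_sub_cancel] at this
    exact Submodule.smul_mono le_rfl inf_le_right this
  have h2 : ∀ y ∈ J ^ N • 𝔞, ∃ b : 𝔞, (b : R) = y ∧ g b = 0 := by
    intro y hy
    refine Submodule.smul_induction_on hy (fun r hr b hb => ⟨r • ⟨b, hb⟩, rfl, ?_⟩) ?_
    · rw [map_smul, hN _ r hr]
    · rintro y z ⟨b, rfl, hb⟩ ⟨b', rfl, hb'⟩
      exact ⟨b + b', rfl, by rw [map_add, hb, hb', add_zero]⟩
  obtain ⟨b, hb, hgb⟩ := h2 _ h1
  rwa [Subtype.ext hb] at hgb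

/-- A map on an ideal vanishing on `J ^ k` factors through the image in `R / J ^ k`. -/
theorem exists_factor_quotient (J 𝔞 : Ideal R) {H : Type v} [AddCommGroup H]
    [Module R H] (g : 𝔞 →ₗ[R] H) {k : ℕ} (hk : ∀ a : 𝔞, (a : R) ∈ J ^ k → g a = 0) :
    ∃ g' : Submodule.map (Submodule.mkQ (J ^ k)) 𝔞 →ₗ[R] H,
      ∀ (a : R) (ha : a ∈ 𝔞), g' ⟨_, Submodule.mem_map_of_mem ha⟩ = g ⟨a, ha⟩ := by
  let q : 𝔞 →ₗ[R] Submodule.map (Submodule.mkQ (J ^ k)) 𝔞 :=
    ((Submodule.mkQ (J ^ k)).comp 𝔞.subtype).codRestrict _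
      fun a => Submodule.mem_map_of_mem a.2
  have hq : Function.Surjective q := by
    rintro ⟨_, a, ha, rfl⟩
    exact ⟨⟨a, ha⟩, rfl⟩
  obtain ⟨g', hg'⟩ := exists_factor q hq g fun a ha => hk a
    ((Submodule.Quotient.mk_eq_zero _).1 (congrArg Subtype.val ha))
  exact ⟨g', fun a ha => LinearMap.congr_fun hg' ⟨a, ha⟩⟩

end Groth.Agent.InjHullLib
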