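import Mathlib.Algebra.Polynomial.Module.AEval
import Mathlib.Algebra.Module.Injective
import Groth.Agent.InjHullLib.Basic
import Groth.Agent.S6965
import Mathlib.Algebra.Homology.DerivedCategory.Ext.EnoughInjectives
import Mathlib.RingTheory.TensorProduct.MonoidAlgebra
import Mathlib.RingTheory.PolynomialAlgebra
import Mathlib.LinearAlgebra.DirectSum.Finsupp
import Mathlib.Algebra.Polynomial.Basis
import Mathlib.Algebra.Category.ModuleCat.Ext.HasExt
import Mathlib.Algebra.Homology.ShortComplex.ModuleCat

/-! Injective dimension at most one of polynomial modules with injective underlying module. -/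

set_option autoImplicit false
set_option linter.style.haveILetI false
set_option maxHeartbeats 400000
universe u
open Polynomial CategoryTheory
open scoped TensorProduct

namespace Groth.Agent.InjHullLib

variable (A : Type u) [CommRing A] (M : Type u) [AddCommGroup M] [Module A M]

/-- The shift on sequences. -/
def seqShift : (ℕ → M) →ₗ[A] (ℕ → M) where
  toFun f n := f (n + 1)
  map_add' _ _ := rfl
  map_smul' _ _ := rfl

/-- Sequences in `M` as an `A[X]`-module, `X` acting by the shift. -/
abbrev Seq : Type u := Module.AEval' (seqShift A M)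

variable {A M}

noncomputable def seqOf : (ℕ → M) ≃ₗ[A] Seq A M := Module.AEval'.of (seqShift A M)

theorem seqOf_X_smul (m : Seq A M) (n : ℕ) :
    seqOf.symm ((X : A[X]) • m) n = seqOf.symm m (n + 1) := by
  obtain ⟨f, rfl⟩ := (seqOf (A := A) (M := M)).surjective m
  rw [seqOf, Module.AEval'.X_smul_of, LinearEquiv.symm_apply_apply, LinearEquiv.symm_apply_apply]
  rfl

/-- An `A`-linear map commuting with `X` is `A[X]`-linear. -/
def ofCommX {N P : Type*} [AddCommGroup N] [Module A N] [Module A[X] N] [IsScalarTower A A[X] N]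
    [AddCommGroup P] [Module A P] [Module A[X] P] [IsScalarTower A A[X] P]
    (g : N →ₗ[A] P) (hg : ∀ n, g ((X : A[X]) • n) = (X : A[X]) • g n) : N →ₗ[A[X]] P where
  toFun := g
  map_add' := map_add g
  map_smul' p n := by
    change g (p • n) = p • g n
    induction p using Polynomial.induction_on' generalizing n with
    | add p q hp hq => simp only [add_smul, map_add, hp, hq]
    | monomial k a =>
      rw [← smul_X_eq_monomial, smul_assoc, smul_assoc, map_smul]
      congr 1
      induction k generalizing n with
      | zero => simp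
      | succ k ih => rw [pow_succ, mul_smul, mul_smul, ih, hg]

/-- Coinduction of an injective module along `A → A[X]`. -/
theorem injective_seq [Module.Injective A M] : Module.Injective A[X] (Seq A M) := by
  refine ⟨fun N₁ N₂ _ _ _ _ i hi g => ?_⟩
  letI := Module.compHom N₁ (C : A →+* A[X])
  letI := Module.compHom N₂ (C : A →+* A[X])
  haveI : IsScalarTower A A[X] N₁ := IsScalarTower.of_compHom A A[X] N₁
  haveI : IsScalarTower A A[X] N₂ := IsScalarTower.of_compHom A A[X] N₂
  obtain ⟨h, hh⟩ := Module.Injective.out (R := A) (Q := M) (i.restrictScalars A) hi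
    ((LinearMap.proj (R := A) (φ := fun _ : ℕ => M) 0).comp
      (seqOf.symm.toLinearMap.comp (g.restrictScalars A)))
  let G : N₂ →ₗ[A] Seq A M := seqOf.toLinearMap.comp
    (LinearMap.pi fun k => h.comp ((LinearMap.lsmul A[X] N₂ (X ^ k)).restrictScalars A))
  have hG : ∀ n k, seqOf.symm (G n) k = h ((X : A[X]) ^ k • n) := fun n k => by
    simp [G]
  refine ⟨ofCommX G fun n => seqOf.symm.injective (funext fun k => ?_), fun n => ?_⟩
  · rw [seqOf_X_smul, hG, hG, pow_succ, mul_smul]
  · refine seqOf.symm.injective (funext fun k => ?_)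
    change seqOf.symm (G (i n)) k = _
    rw [hG, ← map_smul i]
    have := hh ((X : A[X]) ^ k • n)
    simp only [LinearMap.restrictScalars_apply, LinearMap.comp_apply, LinearMap.proj_apply,
      LinearEquiv.coe_coe] at this
    rw [this]
    clear this hh hG
    induction k generalizing n with
    | zero => simp
    | succ k ih => rw [pow_succ, mul_smul, ih, map_smul, seqOf_X_smul]

variable [Module A[X] M] [IsScalarTower A A[X] M]

/-- `m ↦ (Xⁿ m)ₙ`. -/
noncomputable def toSeq : M →ₗ[A[X]] Seq A M :=
  ofCommX (seqOf.toLinearMap.comp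
      (LinearMap.pi fun k => (LinearMap.lsmul A[X] M (X ^ k)).restrictScalars A))
    fun m => seqOf.symm.injective (funext fun k => by
      rw [seqOf_X_smul]
      simp [pow_succ, mul_smul, smul_comm (X : A[X]) (_ : A[X]) m])

theorem toSeq_apply (m : M) (k : ℕ) : seqOf.symm (toSeq (A := A) m) k = (X : A[X]) ^ k • m := by
  simp [toSeq, ofCommX]

/-- `f ↦ (f (n + 1) - X f n)ₙ`. -/
noncomputable def seqDiff : Seq A M →ₗ[A[X]] Seq A M :=
  ofCommX (seqOf.toLinearMap.comp ((LinearMap.pi fun k =>
      LinearMap.proj (R := A) (φ := fun _ : ℕ => M) (k + 1) -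
        ((LinearMap.lsmul A[X] M X).restrictScalars A).comp (LinearMap.proj k)).comp seqOf.symm.toLinearMap))
    fun f => seqOf.symm.injective (funext fun k => by
      rw [seqOf_X_smul]
      simp [seqOf_X_smul])

theorem seqDiff_apply (f : Seq A M) (k : ℕ) :
    seqOf.symm (seqDiff f) k = seqOf.symm f (k + 1) - (X : A[X]) • seqOf.symm f k := by
  simp [seqDiff, ofCommX]

theorem toSeq_injective : Function.Injective (toSeq (A := A) (M := M)) := fun m₁ m₂ h => by
  simpa [toSeq_apply] using congrArg (fun f => seqOf.symm f 0) h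

theorem seqDiff_comp_toSeq : (seqDiff (A := A) (M := M)).comp toSeq = 0 :=
  LinearMap.ext fun m => seqOf.symm.injective (funext fun k => by
    simp [seqDiff_apply, toSeq_apply, pow_succ', mul_smul])

theorem seqDiff_surjective : Function.Surjective (seqDiff (A := A) (M := M)) := by
  intro g
  let f : ℕ → M := fun n => Nat.rec 0 (fun k r => (X : A[X]) • r + seqOf.symm g k) n
  refine ⟨seqOf f, seqOf.symm.injective (funext fun k => ?_)⟩
  rw [seqDiff_apply, LinearEquiv.symm_apply_apply]
  simp [f]

theorem exact_toSeq_seqDiff :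
    Function.Exact (toSeq (A := A) (M := M)) (seqDiff (A := A) (M := M)) := by
  intro f
  refine ⟨fun h => ⟨seqOf.symm f 0, seqOf.symm.injective (funext fun k => ?_)⟩, ?_⟩
  · rw [toSeq_apply]
    induction k with
    | zero => simp
    | succ k ih =>
      rw [pow_succ', mul_smul, ih]
      have := congrArg (fun g => seqOf.symm g k) h
      simp only [seqDiff_apply, map_zero, Pi.zero_apply, sub_eq_zero] at this
      exact this.symm
  · rintro ⟨m, rfl⟩
    exact LinearMap.congr_fun seqDiff_comp_toSeq m

attribute [local instance] HasDerivedCategory.standard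

omit [Module A M] [Module A[X] M] [IsScalarTower A A[X] M] in
/-- A module with an injective coresolution of length one has injective amplitude in `[0, 1]`. -/
theorem hasInjAmplitude_of_shortExact {R : Type u} [CommRing R] (S : ShortComplex (ModuleCat.{u} R))
    (hS : S.ShortExact) [Injective S.X₂] [Injective S.X₃] :
    DRing.HasInjAmplitudeIn R 0 1 (Dual.inD R S.X₁) := by
  refine ((Groth.Agent.S6965.result R (Dual.inD R S.X₁) 0 1).out 0 1).2 ?_
  intro N iN mN i hi
  letI := iN
  letI := mN
  change Subsingleton ((DerivedCategory.singleFunctor (ModuleCat.{u} R) 0).obj (ModuleCat.of R N) ⟶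
    ((DerivedCategory.singleFunctor (ModuleCat.{u} R) 0).obj S.X₁)⟦i⟧)
  rcases hi with hi | hi
  · haveI : (((DerivedCategory.singleFunctor (ModuleCat.{u} R) 0).obj S.X₁)⟦i⟧).IsGE (0 - i) :=
      DerivedCategory.TStructure.t.isGE_shift _ 0 i (0 - i) (by omega)
    exact subsingleton_of_forall_eq 0 fun φ =>
      DerivedCategory.TStructure.t.zero φ 0 (0 - i) (by omega)
  · obtain ⟨n, rfl⟩ : ∃ n : ℕ, i = ((n + 2 : ℕ) : ℤ) := ⟨(i - 2).toNat, by push_cast; omega⟩
    haveI : Subsingleton (Abelian.Ext.{u} (ModuleCat.of R N) S.X₁ (n + 2)) := by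
      refine subsingleton_of_forall_eq 0 fun x => ?_
      obtain ⟨y, rfl⟩ := Abelian.Ext.covariant_sequence_exact₁ (ModuleCat.of R N) hS x
        (Abelian.Ext.eq_zero_of_injective _) (n₀ := n + 1) rfl
      rw [Abelian.Ext.eq_zero_of_injective y, Abelian.Ext.zero_comp]
    exact (Abelian.Ext.homEquiv (X := ModuleCat.of R N) (Y := S.X₁)
      (n := n + 2)).symm.subsingleton

/-- An `A[X]`-module which is injective over `A` has injective amplitude in `[0, 1]`. -/
theorem hasInjAmplitude_of_injective_restrict [Module.Injective A M] :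
    DRing.HasInjAmplitudeIn A[X] 0 1 (Dual.inD A[X] M) := by
  have hz : ModuleCat.ofHom (toSeq (A := A) (M := M)) ≫ ModuleCat.ofHom seqDiff = 0 :=
    ModuleCat.hom_ext seqDiff_comp_toSeq
  have hS : (ShortComplex.mk _ _ hz).ShortExact :=
    { exact := (ShortComplex.ShortExact.moduleCat_exact_iff_function_exact _).2 exact_toSeq_seqDiff
      mono_f := (ModuleCat.mono_iff_injective _).2 toSeq_injective
      epi_g := (ModuleCat.epi_iff_surjective _).2 seqDiff_surjective }
  haveI := injective_seq (A := A) (M := M)
  haveI : Injective (ModuleCat.of A[X] (Seq A M)) :=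
    Module.injective_object_of_injective_module A[X] (Seq A M)
  exact hasInjAmplitude_of_shortExact _ hS

/-- `A[X] ⊗ E` is injective over Noetherian `A`. -/
theorem injective_poly_tensor [IsNoetherianRing A] (E : Type u) [AddCommGroup E] [Module A E]
    [Module.Injective A E] : Module.Injective A (A[X] ⊗[A] E) := by
  classical
  have h := injective_directSum (R := A) (fun _ : ULift.{u} ℕ => A ⊗[A] E) fun _ =>
    injective_of_equiv (TensorProduct.lid A E).symm inferInstance
  refine injective_of_equiv ?_ h
  exact (TensorProduct.directSumLeft A A (fun _ : ULift.{u} ℕ => A) E).symm ≪≫ₗ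
    TensorProduct.congr ((finsuppLEquivDirectSum A A (ULift.{u} ℕ)).symm ≪≫ₗ
      Finsupp.domLCongr Equiv.ulift ≪≫ₗ (Polynomial.basisMonomials A).repr.symm) (LinearEquiv.refl A E)

end Groth.Agent.InjHullLib
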