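import Groth.Agent.Matlis6.Recognition
import Groth.Agent.Matlis6.Completion
import Groth.Agent.InjHullLib.Basic
import Mathlib

/-!
# Recognising the hull of the residue field by lengths
-/

set_option autoImplicit false

namespace Groth.Agent.InjHullLib

open InjHull IsLocalRing

universe u

variable {A : Type u} [CommRing A] [IsLocalRing A]

theorem isFiniteLength_of_le {a : Ideal A} [IsNoetherianRing A] {N : ℕ} (h : maximalIdeal A ^ N ≤ a) :
    IsFiniteLength A (A ⧸ a) := by
  have h1 := Matlis6.isFiniteLength_quotient_pow (m := maximalIdeal A) N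
  rw [← Module.length_ne_top_iff] at h1 ⊢
  exact ne_top_of_le_ne_top h1 (Module.length_le_of_surjective (Submodule.factor h) (Submodule.factor_surjective h))

/-- A power torsion module with socle a line and `length (A/a n) ≤ length Hom(A/a n, I)` on a cofinal
sequence of ideals is a hull of the residue field. -/
theorem isHullAt_of_length_le [IsNoetherianRing A] {I : Type u} [AddCommGroup I] [Module A I]
    (ha : LocCoh.IsPowerTorsion (maximalIdeal A) I) {e : I} (he : e ≠ 0)
    (hme : ∀ c ∈ maximalIdeal A, c • e = 0)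
    (hsoc : ∀ x : I, (∀ c ∈ maximalIdeal A, c • x = 0) → ∃ c : A, x = c • e)
    (a : ℕ → Ideal A) (hcof : ∀ n, ∃ N : ℕ, maximalIdeal A ^ N ≤ a n)
    (hcof' : ∀ N : ℕ, ∃ n : ℕ, a n ≤ maximalIdeal A ^ N)
    (hlen : ∀ n, Module.length A (A ⧸ a n) ≤ Module.length A ((A ⧸ a n) →ₗ[A] I)) :
    Matlis6.IsHullAt (maximalIdeal A) I := by
  refine Matlis6.isHullAt_of_length ha he hme hsoc fun j => ?_
  obtain ⟨E, _, _, hE⟩ := Matlis6.exists_isHullAt (maximalIdeal A)
  obtain ⟨g, hg⟩ := Matlis6.exists_injective_of_socle_line hE ha he hme hsoc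
  rw [(Matlis6.torsionEquivHom (m := maximalIdeal A) j I).length_eq]
  obtain ⟨n, hn⟩ := hcof' j
  obtain ⟨N, hN⟩ := hcof n
  let π : (A ⧸ a n) →ₗ[A] A ⧸ maximalIdeal A ^ j := Submodule.factor hn
  have hπ : Function.Surjective π := Submodule.factor_surjective hn
  have hQ := isFiniteLength_of_le hN
  have hsplit : Module.length A (A ⧸ a n) =
      Module.length A ↥(LinearMap.ker π) + Module.length A (A ⧸ maximalIdeal A ^ j) :=
    Module.length_eq_add_of_exact _ π (LinearMap.ker π).injective_subtype hπ (LinearMap.exact_subtype_ker_map π)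
  have hKfin : Module.length A ↥(LinearMap.ker π) ≠ ⊤ :=
    ne_top_of_le_ne_top (Module.length_ne_top_iff.2 hQ)
      (Module.length_le_of_injective _ (LinearMap.ker π).injective_subtype)
  have hK : Module.length A (↥(LinearMap.ker π) →ₗ[A] I) ≤ Module.length A ↥(LinearMap.ker π) := by
    obtain ⟨i, hi⟩ := Matlis6.exists_pow_killed_of_isFiniteLength (Module.length_ne_top_iff.1 hKfin)
    rw [← hE.length_dual (Module.length_ne_top_iff.1 hKfin) hi]
    exact Module.length_le_of_injective
      { toFun := fun φ => g.comp φ, map_add' := fun φ ψ => LinearMap.comp_add φ ψ g,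
        map_smul' := fun c φ => LinearMap.comp_smul g c φ }
      (fun φ ψ h => LinearMap.ext fun k => hg (LinearMap.congr_fun h k))
  let ρ : ((A ⧸ a n) →ₗ[A] I) →ₗ[A] (↥(LinearMap.ker π) →ₗ[A] I) :=
    LinearMap.lcomp A I (LinearMap.ker π).subtype
  have hex : Function.Exact (LinearMap.lcomp A I π) ρ.rangeRestrict := by
    intro φ
    constructor
    · intro h
      have h0 : φ ∘ₗ (LinearMap.ker π).subtype = 0 := congrArg Subtype.val h
      obtain ⟨φ', hφ'⟩ := exists_factor π hπ φ fun x hx => LinearMap.congr_fun h0 ⟨x, hx⟩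
      exact ⟨φ', hφ'⟩
    · rintro ⟨φ', rfl⟩
      exact Subtype.ext (LinearMap.ext fun k => by simp [ρ, LinearMap.mem_ker.1 k.2])
  have hsum : Module.length A ((A ⧸ a n) →ₗ[A] I) ≤
      Module.length A ((A ⧸ maximalIdeal A ^ j) →ₗ[A] I) + Module.length A ↥(LinearMap.ker π) := by
    rw [Module.length_eq_add_of_exact (LinearMap.lcomp A I π) ρ.rangeRestrict
      (fun φ ψ h => LinearMap.ext fun q => by obtain ⟨p, rfl⟩ := hπ q; exact LinearMap.congr_fun h p)
      ρ.surjective_rangeRestrict hex]
    exact add_le_add le_rfl ((Module.length_le_of_injective _ (LinearMap.range ρ).injective_subtype).trans hK)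
  have h2 := (hlen n).trans hsum
  rw [hsplit, add_comm] at h2
  exact (WithTop.add_le_add_iff_right hKfin).1 h2

/-- The socle generator from `Hom(k, I) ≅ k`. -/
theorem exists_socle_of_equiv {I : Type u} [AddCommGroup I] [Module A I]
    (e : (ResidueField A →ₗ[A] I) ≃ₗ[A] ResidueField A) :
    ∃ x₀ : I, x₀ ≠ 0 ∧ (∀ c ∈ maximalIdeal A, c • x₀ = 0) ∧
      ∀ x : I, (∀ c ∈ maximalIdeal A, c • x = 0) → ∃ c : A, x = c • x₀ := by
  have hsmul : ∀ (c : A) (k : ResidueField A), c • k = residue A c * k := fun c k => Algebra.smul_def c k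
  have hlin : ∀ (φ : ResidueField A →ₗ[A] I) (r : A), φ (residue A r) = r • φ 1 := fun φ r => by
    rw [← map_smul, hsmul, mul_one]
  refine ⟨e.symm 1 1, fun h0 => ?_, fun c hc => ?_, fun x hx => ?_⟩
  · have : e.symm 1 = 0 := LinearMap.ext fun q => by
      obtain ⟨r, rfl⟩ := residue_surjective q
      rw [hlin, h0, smul_zero, LinearMap.zero_apply]
    exact one_ne_zero (e.symm.injective (this.trans (map_zero e.symm).symm))
  · rw [← map_smul, hsmul, (residue_eq_zero_iff c).2 hc, zero_mul, map_zero]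
  · let φ : ResidueField A →ₗ[A] I :=
      Submodule.liftQ (maximalIdeal A) (LinearMap.toSpanSingleton A I x) fun c hc => hx c hc
    obtain ⟨c, hc⟩ := residue_surjective (e φ)
    refine ⟨c, ?_⟩
    have h1 : φ = c • e.symm 1 := by
      rw [← map_smul, hsmul, mul_one, hc, e.symm_apply_apply]
    calc x = φ (Submodule.Quotient.mk 1) := (one_smul A x).symm
      _ = (c • e.symm 1) (Submodule.Quotient.mk 1) := by rw [h1]
      _ = c • e.symm 1 1 := rfl

end Groth.Agent.InjHullLib
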